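import Cfsg.Agent.H821.K547.Defs
import Cfsg.Agent.H512.LinFour.FrameB

/-!
# S4547: the Sylow 2-subgroup of `AGL₃(2)` acting on eight points has rank three
-/

set_option autoImplicit false

namespace Cfsg.Agent.H647.K547

open Cfsg Cfsg.Agent.H821.K547 Cfsg.Agent.H512.LinFour.FrameA

universe u v

/-! ### a general tool -/

/-- if `M ≤ G` has odd index and maps onto a 2-group `Y` of rank 3 then `D3 G` -/
theorem d3_of_map {G : Type u} [Group G] [Finite G] (M : Subgroup G) (hM : ¬ 2 ∣ M.index) {Y : Type v} [Group Y]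
    (hY : IsPGroup 2 Y) (f : M →* Y) (hf : Function.Surjective f)
    (g : Y →* Multiplicative (Fin 3 → ZMod 2)) (hg : Function.Surjective g) : D3 G := by
  intro Q
  have : Finite Y := Finite.of_surjective f hf
  obtain ⟨R⟩ : Nonempty (Sylow 2 M) := inferInstance
  have hcard : Nat.card ((R : Subgroup M).map M.subtype) = 2 ^ (Nat.card G).factorization 2 := by
    rw [← Nat.card_congr ((R : Subgroup M).equivMapOfInjective _ M.subtype_injective).toEquiv,
      R.card_eq_multiplicity]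
    congr 1
    rw [← M.card_mul_index, Nat.factorization_mul Nat.card_pos.ne' (Subgroup.index_ne_zero_of_finite),
      Finsupp.add_apply, Nat.factorization_eq_zero_of_not_dvd hM, add_zero]
  let R' : Sylow 2 G := Sylow.ofCard ((R : Subgroup M).map M.subtype) hcard
  have e1 : Q ≃* R' := Sylow.equiv Q R'
  have e2 : (R : Subgroup M) ≃* R' := (R : Subgroup M).equivMapOfInjective _ M.subtype_injective
  have hsurj : Function.Surjective (g.comp (f.comp (R : Subgroup M).subtype)) := by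
    have h1 : ((R.mapSurjective hf : Sylow 2 Y) : Subgroup Y) = ⊤ := by
      have h2 : IsPGroup 2 (⊤ : Subgroup Y) := hY.to_subgroup ⊤
      exact ((R.mapSurjective hf).3 h2 le_top).symm
    intro y
    obtain ⟨z, rfl⟩ := hg y
    have h3 : z ∈ ((R.mapSurjective hf : Sylow 2 Y) : Subgroup Y) := by rw [h1]; trivial
    rw [Sylow.coe_mapSurjective] at h3
    obtain ⟨r, hr, hrz⟩ := h3
    exact ⟨⟨r, hr⟩, by rw [← hrz]; rfl⟩
  refine ⟨(g.comp (f.comp (R : Subgroup M).subtype)).comp (e1.trans e2.symm).toMonoidHom, ?_⟩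
  exact hsurj.comp (e1.trans e2.symm).surjective

/-! ### the group of order 64 -/

/-- translations -/
def tr : Fin 8 → Equiv.Perm (Fin 8) :=
  ![1, pE1, pE2, pE3, pE2 * pE1, pE3 * pE1, pE3 * (pE2 * pE1), pE3 * pE2]

/-- coordinates of the points -/
def k1 : Fin 8 → ZMod 2 := ![0, 1, 0, 0, 1, 1, 1, 0]
def k2 : Fin 8 → ZMod 2 := ![0, 0, 1, 0, 1, 0, 1, 1]
def k3 : Fin 8 → ZMod 2 := ![0, 0, 0, 1, 0, 1, 1, 1]

/-- the three homomorphisms -/
def ff (σ : Equiv.Perm (Fin 8)) : Fin 3 → ZMod 2 :=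
  ![k3 (σ 0), k1 (σ 2) + k1 (σ 0), k2 (σ 3) + k2 (σ 0)]

theorem ff_one : ff 1 = 0 := by decide +kernel

/-- the set of 64 elements -/
def SS : Set (Equiv.Perm (Fin 8)) := {σ | ∃ (x : Fin 8) (d : DihedralGroup 4), σ = tr x * dihFun d}

/-- the property of the elements of the group -/
def PP (g : Equiv.Perm (Fin 8)) : Prop := ∀ s ∈ SS, g * s ∈ SS ∧ ff (g * s) = ff g + ff s

theorem one_mem_SS : (1 : Equiv.Perm (Fin 8)) ∈ SS := ⟨0, .r 0, by decide +kernel⟩

theorem E1_tr : ∀ x : Fin 8, pE1 * tr x = tr (pE1 x) := by decide +kernel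
theorem E2_tr : ∀ x : Fin 8, pE2 * tr x = tr (pE2 x) := by decide +kernel
theorem E3_tr : ∀ x : Fin 8, pE3 * tr x = tr (pE3 x) := by decide +kernel
theorem A_tr : ∀ x : Fin 8, pA * tr x = tr (pA x) * dihFun (.sr 0) := by decide +kernel
theorem B_tr : ∀ x : Fin 8, pB * tr x = tr (pB x) * dihFun (.sr 1) := by decide +kernel

theorem E1_ff : ∀ (x : Fin 8) (d : DihedralGroup 4), ff (pE1 * (tr x * dihFun d)) = ff pE1 + ff (tr x * dihFun d) := by
  decide +kernel
theorem E2_ff : ∀ (x : Fin 8) (d : DihedralGroup 4), ff (pE2 * (tr x * dihFun d)) = ff pE2 + ff (tr x * dihFun d) := by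
  decide +kernel
theorem E3_ff : ∀ (x : Fin 8) (d : DihedralGroup 4), ff (pE3 * (tr x * dihFun d)) = ff pE3 + ff (tr x * dihFun d) := by
  decide +kernel
theorem A_ff : ∀ (x : Fin 8) (d : DihedralGroup 4), ff (pA * (tr x * dihFun d)) = ff pA + ff (tr x * dihFun d) := by
  decide +kernel
theorem B_ff : ∀ (x : Fin 8) (d : DihedralGroup 4), ff (pB * (tr x * dihFun d)) = ff pB + ff (tr x * dihFun d) := by
  decide +kernel

theorem PP_E1 : PP pE1 := by
  rintro _ ⟨x, d, rfl⟩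
  exact ⟨⟨pE1 x, d, by rw [← mul_assoc, E1_tr]⟩, E1_ff x d⟩
theorem PP_E2 : PP pE2 := by
  rintro _ ⟨x, d, rfl⟩
  exact ⟨⟨pE2 x, d, by rw [← mul_assoc, E2_tr]⟩, E2_ff x d⟩
theorem PP_E3 : PP pE3 := by
  rintro _ ⟨x, d, rfl⟩
  exact ⟨⟨pE3 x, d, by rw [← mul_assoc, E3_tr]⟩, E3_ff x d⟩
theorem PP_A : PP pA := by
  rintro _ ⟨x, d, rfl⟩
  exact ⟨⟨pA x, .sr 0 * d, by rw [← mul_assoc, A_tr, mul_assoc, ← dih_mul]⟩, A_ff x d⟩
theorem PP_B : PP pB := by
  rintro _ ⟨x, d, rfl⟩
  exact ⟨⟨pB x, .sr 1 * d, by rw [← mul_assoc, B_tr, mul_assoc, ← dih_mul]⟩, B_ff x d⟩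

theorem PP.mem {g : Equiv.Perm (Fin 8)} (h : PP g) : g ∈ SS := by
  have := (h 1 one_mem_SS).1
  rwa [mul_one] at this

theorem PP_one : PP 1 := by
  intro s hs
  rw [one_mul, ff_one, zero_add]
  exact ⟨hs, rfl⟩

theorem PP.mul {g h : Equiv.Perm (Fin 8)} (hg : PP g) (hh : PP h) : PP (g * h) := by
  intro s hs
  obtain ⟨h1, h2⟩ := hh s hs
  obtain ⟨h3, h4⟩ := hg _ h1
  obtain ⟨-, h6⟩ := hg _ hh.mem
  rw [mul_assoc]
  exact ⟨h3, by rw [h4, h2, h6, add_assoc]⟩

theorem PP.pow {g : Equiv.Perm (Fin 8)} (hg : PP g) (n : ℕ) : PP (g ^ n) := by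
  induction n with
  | zero => rw [pow_zero]; exact PP_one
  | succ n ih => rw [pow_succ]; exact ih.mul hg

theorem PP.inv {g : Equiv.Perm (Fin 8)} (hg : PP g) : PP g⁻¹ := by
  obtain ⟨n, hn⟩ : ∃ n : ℕ, g⁻¹ = g ^ n := by
    have h := pow_orderOf_eq_one g
    have hpos : 0 < orderOf g := orderOf_pos g
    refine ⟨orderOf g - 1, ?_⟩
    rw [inv_eq_iff_mul_eq_one, ← pow_succ', Nat.sub_add_cancel hpos, h]
  rw [hn]
  exact hg.pow n

/-- the Sylow 2-subgroup of `AGL₃(2)` -/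
def H0 : Subgroup (Equiv.Perm (Fin 8)) := Subgroup.closure {pE1, pE2, pE3, pA, pB}

theorem PP_of_mem {g : Equiv.Perm (Fin 8)} (hg : g ∈ H0) : PP g := by
  induction hg using Subgroup.closure_induction with
  | mem x hx =>
    rcases hx with rfl | rfl | rfl | rfl | rfl
    · exact PP_E1
    · exact PP_E2
    · exact PP_E3
    · exact PP_A
    · exact PP_B
  | one => exact PP_one
  | mul x y _ _ hx hy => exact hx.mul hy
  | inv x _ hx => exact hx.inv

/-- the homomorphism onto `C₂³` -/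
def fH : H0 →* Multiplicative (Fin 3 → ZMod 2) where
  toFun g := Multiplicative.ofAdd (ff g)
  map_one' := by
    change Multiplicative.ofAdd (ff 1) = 1
    rw [ff_one]
    rfl
  map_mul' a b := by
    change Multiplicative.ofAdd (ff (a * b)) = _
    rw [((PP_of_mem a.2) b (PP_of_mem b.2).mem).2, ofAdd_add]

theorem ff_surj : ∀ w : Fin 3 → ZMod 2, w = ff (pE3 ^ (w 0).val * (pA ^ (w 1).val * pB ^ (w 2).val)) := by
  decide +kernel

theorem mem_H0 {g : Equiv.Perm (Fin 8)} (h : g ∈ ({pE1, pE2, pE3, pA, pB} : Set (Equiv.Perm (Fin 8)))) : g ∈ H0 :=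
  Subgroup.subset_closure h

theorem fH_surj : Function.Surjective fH := by
  intro w
  refine ⟨⟨pE3 ^ (Multiplicative.toAdd w 0).val * (pA ^ (Multiplicative.toAdd w 1).val *
    pB ^ (Multiplicative.toAdd w 2).val), ?_⟩, ?_⟩
  · exact mul_mem (pow_mem (mem_H0 (by simp)) _) (mul_mem (pow_mem (mem_H0 (by simp)) _)
      (pow_mem (mem_H0 (by simp)) _))
  · exact congrArg Multiplicative.ofAdd (ff_surj (Multiplicative.toAdd w)).symm

theorem card_H0 : Nat.card H0 = 64 := by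
  classical
  have h1 : 64 ∣ Nat.card H0 := dvd64 (mem_H0 (by simp)) (mem_H0 (by simp)) (mem_H0 (by simp)) (mem_H0 (by simp))
    (mem_H0 (by simp))
  have h2 : Nat.card H0 ≤ 64 := by
    let φ : Fin 8 × DihedralGroup 4 → Equiv.Perm (Fin 8) := fun x => tr x.1 * dihFun x.2
    have h3 : (H0 : Set (Equiv.Perm (Fin 8))) ⊆ Set.range φ := by
      intro g hg
      obtain ⟨x, d, hxd⟩ := (PP_of_mem hg).mem
      exact ⟨(x, d), hxd.symm⟩
    have h4 : Nat.card H0 ≤ Nat.card (Set.range φ) := by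
      have := Set.ncard_le_ncard h3 (Set.toFinite _)
      rwa [← Nat.card_coe_set_eq, ← Nat.card_coe_set_eq] at this
    have h5 : Nat.card (Set.range φ) ≤ Nat.card (Fin 8 × DihedralGroup 4) :=
      Finite.card_range_le φ
    have h6 : Nat.card (Fin 8 × DihedralGroup 4) = 64 := by
      rw [Nat.card_prod, Nat.card_fin, Nat.card_eq_fintype_card (α := DihedralGroup 4), DihedralGroup.card]
    omega
  have h3 : 0 < Nat.card H0 := Nat.card_pos
  obtain ⟨k, hk⟩ := h1
  rw [hk] at h2 h3 ⊢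
  have : k = 1 := by
    have : 0 < k := by
      rcases Nat.eq_zero_or_pos k with h | h
      · simp [h] at h3
      · exact h
    omega
  rw [this]

theorem isPGroup_H0 : IsPGroup 2 H0 := IsPGroup.of_card (n := 6) (by rw [card_H0]; norm_num)

end Cfsg.Agent.H647.K547
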