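import Cfsg.Agent.H647.K547.Aff
import Cfsg.Agent.H512.LinFour.FrameE8

/-!
# S4547: `D3` for `E₈(q)`, `q` odd
-/

set_option autoImplicit false

namespace Cfsg.Agent.H647.K547

open Cfsg Cfsg.Lie Cfsg.Agent.H821.K547 Cfsg.Agent.H512.LinFour.FrameA

universe u v

/-- a frame of eight commuting `SL(2, F)` whose stabiliser induces `H0`: an odd index subgroup maps onto `H0` -/
theorem map_of_frame {G : Type*} [Group G] [Finite G] {F : Type v} [Field F] [Finite F] {d : ℕ} {T : Subgroup G}
    {φ : Fin 8 → (Matrix.SpecialLinearGroup (Fin 2) F →* G)} (hf : Fr d T φ) {o : ℕ} (ho : Odd o)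
    (hcard : Nat.card G * d = 64 * (Nat.card F ^ 2 - 1) ^ 8 * o) (hle : H0 ≤ hf.pi.range) :
    ∃ M : Subgroup G, ¬ 2 ∣ M.index ∧ ∃ f : M →* H0, Function.Surjective f := by
  classical
  have := Fintype.ofFinite F
  have h64 : 64 ∣ Nat.card hf.pi.range := by
    rw [← card_H0]
    exact Subgroup.card_dvd_of_le hle
  have hodd := hf.odd_index ho (c := 64) (by norm_num) hcard h64
  -- the upper bound
  have hup : ¬ 128 ∣ Nat.card hf.pi.range := by
    intro h
    have e2 := hf.dvd_card h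
    rw [Cfsg.Agent.ClassicalGeometry.PSL2Basic.card_SL2, ← Nat.card_eq_fintype_card, mul_pow] at e2
    have e3 := (NN φ).card_mul_index
    obtain ⟨k, hk⟩ := e2
    have e4 : (64 * (Nat.card F ^ 2 - 1) ^ 8) * o =
        (64 * (Nat.card F ^ 2 - 1) ^ 8) * (2 * (Nat.card F ^ 8 * k * (NN φ).index)) := by
      rw [← hcard, ← e3, mul_right_comm, hk]; ring
    have hpos : 0 < 64 * (Nat.card F ^ 2 - 1) ^ 8 := by
      have h1 : 1 < Nat.card F := Finite.one_lt_card
      have : 1 < Nat.card F ^ 2 := by nlinarith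
      have : 0 < (Nat.card F ^ 2 - 1) ^ 8 := pow_pos (by omega) 8
      positivity
    have e5 := Nat.eq_of_mul_eq_mul_left hpos e4
    rw [e5] at ho
    exact (Nat.not_even_iff_odd.2 ho) ⟨_, two_mul _⟩
  have hrel : ¬ 2 ∣ H0.relIndex hf.pi.range := by
    rintro ⟨k, hk⟩
    apply hup
    have h1 := Subgroup.card_mul_index (H0.subgroupOf hf.pi.range)
    have h2 : Nat.card (H0.subgroupOf hf.pi.range) = 64 := by
      rw [Nat.card_congr (Subgroup.subgroupOfEquivOfLe hle).toEquiv, card_H0]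
    rw [h2] at h1
    change 64 * H0.relIndex hf.pi.range = _ at h1
    rw [hk] at h1
    exact ⟨k, by rw [← h1]; ring⟩
  -- the subgroup
  set N1 : Subgroup (NN φ) := H0.comap hf.pi with hN1
  have hN1i : ¬ 2 ∣ N1.index := by rw [hN1, Subgroup.index_comap]; exact hrel
  let f : N1 →* H0 := (hf.pi.subgroupComap H0)
  have hfs : Function.Surjective f := by
    rintro ⟨y, hy⟩
    obtain ⟨x, hx⟩ := hle hy
    refine ⟨⟨x, ?_⟩, Subtype.ext hx⟩
    change hf.pi x ∈ H0
    rw [hx]; exact hy
  -- in `G`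
  let e : N1 ≃* N1.map (NN φ).subtype := N1.equivMapOfInjective _ (NN φ).subtype_injective
  have hidx : ¬ 2 ∣ (N1.map (NN φ).subtype).index := by
    intro h
    have h1 : (N1.map (NN φ).subtype).index = N1.index * (NN φ).index := by
      rw [Subgroup.index_map_subtype]
    rw [h1] at h
    rcases (Nat.Prime.dvd_mul Nat.prime_two).1 h with h | h
    · exact hN1i h
    · exact (Nat.not_even_iff_odd.2 hodd) (even_iff_two_dvd.2 h)
  exact ⟨N1.map (NN φ).subtype, hidx, f.comp e.symm.toMonoidHom, hfs.comp e.symm.surjective⟩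

/-- transport to an isomorphic group -/
theorem d3_of_equiv {G : Type u} [Group G] {G' : Type v} [Group G'] [Finite G'] (e : G ≃* G')
    (h : ∃ M : Subgroup G', ¬ 2 ∣ M.index ∧ ∃ f : M →* H0, Function.Surjective f) : D3 G := by
  have : Finite G := Finite.of_equiv _ e.symm.toEquiv
  obtain ⟨M, hM, f, hf⟩ := h
  have hidx : (M.comap e.toMonoidHom).index = M.index :=
    Subgroup.index_comap_of_surjective M (f := e.toMonoidHom) e.surjective
  have hs : Function.Surjective (e.toMonoidHom.subgroupComap M) := by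
    rintro ⟨y, hy⟩
    obtain ⟨x, rfl⟩ := e.surjective y
    exact ⟨⟨x, hy⟩, rfl⟩
  exact d3_of_map (M.comap e.toMonoidHom) (by rw [hidx]; exact hM) isPGroup_H0
    (f.comp (e.toMonoidHom.subgroupComap M)) (hf.comp hs) fH fH_surj

open Cfsg.Agent.H512.LinFour.FrameE8 in
/-- **`D3` for `E₈(q)`, `q` odd** -/
theorem d3_E8 {F : Type u} [Field F] [Fintype F] (ho : Odd (Fintype.card F)) {G : Type v} [Group G]
    (e : G ≃* chevE8.group F) : D3 G := by
  have hfin : Finite ↥(chevE8.group F) := inferInstance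
  refine d3_of_equiv e ?_
  rw [← Nat.card_eq_fintype_card] at ho
  obtain ⟨o, ho', hcard⟩ := order_eq ho
  have hfr := frame F
  have hi : ∀ {w : List ℕ} {σ : Equiv.Perm (Fin 8)}, (∀ i ∈ w, i < 8) → chk w σ = true → σ ∈ hfr.pi.range := by
    intro w σ hw hc
    obtain ⟨g, hg⟩ := isPerm_of (K := F) hw hc
    exact hfr.mem_range hg
  refine map_of_frame hfr ho' ?_ ?_
  · rw [mul_one, ← hcard]
    exact Cfsg.Agent.S1065.result Nat.card_eq_fintype_card.symm
  · rw [H0, Subgroup.closure_le]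
    rintro σ (rfl | rfl | rfl | rfl | rfl)
    · exact hi (ltw _ (by simp)) chkE1
    · exact hi (ltw _ (by simp)) chkE2
    · exact hi (ltw _ (by simp)) chkE3
    · exact hi (ltw _ (by simp)) chkA
    · exact hi (ltw _ (by simp)) chkB

end Cfsg.Agent.H647.K547
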